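import Groth.Prelude.Def_Pic
import Groth.Prelude.Def_PicRel2
import Groth.Agent.Coherent.CohBC.EulerFamily
import Groth.Agent.H8Coh.FibreFree
import Groth.Agent.H8Top.Noetherian
import Groth.Agent.FlatMor12.FlatFun.GenPtsDescent
import Groth.Agent.Desc19b.FlatClosure
import Groth.Agent.KRRPBLib.Basic
import Groth.Agent.PicLib.FiniteSetTriv
import Groth.Agent.PicLib.FormalGen
import Groth.Agent.PicLib.PicMonoid
import Groth.Agent.RigDesc27.Disjoint
import Groth.Agent.RigDesc27.Sections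
import Groth.Agent.VarietyLib.CurveDegree
import Groth.Agent.VarietyLib.DegBasic
import Groth.Agent.Coherent.FinitePres
import Groth.Agent.Props12.FinLocFree
import Mathlib.AlgebraicGeometry.AlgClosed.Basic

/-!
# Bounded families of invertible modules and quasi-compact opens of a relative Picard scheme
-/

set_option autoImplicit false
set_option linter.style.haveILetI false
set_option backward.isDefEq.respectTransparency.types false

universe u

open CategoryTheory CategoryTheory.Limits AlgebraicGeometry TopologicalSpace Topology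

namespace Groth.Agent.PicBound27

variable {k : Type u} [Field k]

/-- The base point. -/
noncomputable abbrev bpt (k : Type u) [Field k] : Over (Spec (CommRingCat.of k)) :=
  Over.mk (𝟙 (Spec (CommRingCat.of k)))

/-- A `k`-point whose residue field is the base field gives an isomorphism onto that residue field. -/
theorem isIso_descResidueField {T : Scheme.{u}} (q : T ⟶ Spec (CommRingCat.of k)) (t : Spec (CommRingCat.of k) ⟶ T)
    (ht : t ≫ q = 𝟙 _) :
    ∃ (s : T) (a : Spec (CommRingCat.of k) ⟶ Spec (T.residueField s)), IsIso a ∧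
      a ≫ T.fromSpecResidueField s = t ∧ s = t (IsLocalRing.closedPoint k) := by
  obtain ⟨⟨s, φ⟩, he⟩ := (Scheme.SpecToEquivOfField k T).symm.surjective t
  have h1 : Spec.map φ ≫ T.fromSpecResidueField s = t := he
  let ψ := Spec.preimage (T.fromSpecResidueField s ≫ q)
  have h2 : ψ ≫ φ = 𝟙 _ := by
    apply Spec.map_injective
    rw [Spec.map_comp, Spec.map_preimage, Spec.map_id, reassoc_of% h1, ht]
  haveI : IsIso φ := by
    rw [ConcreteCategory.isIso_iff_bijective]
    exact ⟨φ.hom.injective, fun x => ⟨ψ x, congr($h2 x)⟩⟩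
  refine ⟨s, Spec.map φ, inferInstance, h1, ?_⟩
  rw [← h1, Scheme.Hom.comp_apply, Scheme.fromSpecResidueField_apply]

variable {X : Scheme.{u}}

/-- Over a point with the residue field of the base, the slice is the fibre. -/
theorem isInvertible_fibre_iff {W T : Scheme.{u}} (f : W ⟶ T) (G : W.Modules) (s : T) {K : Scheme.{u}}
    (a : K ⟶ Spec (T.residueField s)) [IsIso a] {Y : Scheme.{u}} (σ : Y ⟶ W) (p : Y ⟶ K)
    {b : K ⟶ T} (hb : a ≫ T.fromSpecResidueField s = b) (hsq : IsPullback σ p f b) :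
    PicF.IsInvertible ((Scheme.Modules.pullback σ).obj G) ↔
      PicF.IsInvertible ((Scheme.Modules.pullback (f.fiberι s)).obj G) := by
  subst hb
  have h2 : IsPullback (f.fiberι s) (f.fiberToSpecResidueField s ≫ inv a) f (a ≫ T.fromSpecResidueField s) :=
    (IsPullback.of_hasPullback f (T.fromSpecResidueField s)).of_iso (Iso.refl _) (Iso.refl _) (asIso a).symm
      (Iso.refl _) (by simp [Scheme.Hom.fiberι, Scheme.Hom.fiber]) (by simp [Scheme.Hom.fiberToSpecResidueField, Scheme.Hom.fiber]) (by simp) (by simp)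
  let e := hsq.isoIsPullback _ _ h2
  have he : e.hom ≫ f.fiberι s = σ := hsq.isoIsPullback_hom_fst _ _ h2
  have he' : e.inv ≫ σ = f.fiberι s := hsq.isoIsPullback_inv_fst _ _ h2
  constructor
  · intro h
    exact AmpleLib.glocus_isInvertible_of_iso ((Scheme.Modules.pullbackComp _ _).app G ≪≫ (Scheme.Modules.pullbackCongr he').app G)
      (PicLoc.isInvertible_pullback e.inv h)
  · intro h
    exact AmpleLib.glocus_isInvertible_of_iso ((Scheme.Modules.pullbackComp _ _).app G ≪≫ (Scheme.Modules.pullbackCongr he).app G)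
      (PicLoc.isInvertible_pullback e.hom h)

/-- Pullback of a local trivialisation. -/
theorem isFreeNear_pullback {W Y : Scheme.{u}} (g : Y ⟶ W) (y : Y) {n : ℕ} {M : W.Modules} {U : W.Opens}
    (hU : g y ∈ U) (e : M.restrict U.ι ≅ FlatMod.freeMod U n) :
    ∃ U' : Y.Opens, y ∈ U' ∧ Nonempty (((Scheme.Modules.pullback g).obj M).restrict U'.ι ≅ FlatMod.freeMod U' n) := by
  refine ⟨g ⁻¹ᵁ U, hU, ⟨?_⟩⟩
  exact (Scheme.Modules.restrictFunctorIsoPullback (g ⁻¹ᵁ U).ι).app _ ≪≫
    ((Scheme.Modules.pullbackComp (g ⁻¹ᵁ U).ι g) ≪≫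
      Scheme.Modules.pullbackCongr (morphismRestrict_ι g U).symm ≪≫
      (Scheme.Modules.pullbackComp (g ∣_ U) U.ι).symm).app M ≪≫
    (Scheme.Modules.pullback (g ∣_ U)).mapIso
      (((Scheme.Modules.restrictFunctorIsoPullback U.ι).app M).symm ≪≫ e) ≪≫
    PreservesCoproduct.iso (Scheme.Modules.pullback (g ∣_ U)) (fun _ : Fin n => Coh.structureModule _) ≪≫
    Sigma.mapIso fun _ => PicLoc.pullbackStructureIso (g ∣_ U)

/-- Over an integral base, if the generic fibre of a coherent module is invertible then the module is invertible over a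
nonempty open subset of the base. -/
theorem exists_open_isInvertible {W S : Scheme.{u}} [IsIntegral S] [IsLocallyNoetherian W] (f : W ⟶ S) [IsProper f]
    (G : W.Modules) (hG : Coh.IsCoh G)
    (h : PicF.IsInvertible ((Scheme.Modules.pullback (f.fiberι (genericPoint S))).obj G)) :
    ∃ V : S.Opens, genericPoint S ∈ V ∧ PicF.IsInvertible ((Scheme.Modules.pullback (f ⁻¹ᵁ V).ι).obj G) := by
  haveI := hG.1
  have hFP := Coherent.isFP_of_isCoh hG
  have hFT := H8Coh.FibreFree.isFT_of_isFP G hFP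
  haveI : Flat (S.fromSpecResidueField (genericPoint S)) := Desc19b.flat_fromSpecResidueField_genericPoint
  haveI : Flat (f.fiberι (genericPoint S)) := MorphismProperty.pullback_fst _ _ inferInstance
  let Bad : Set W := {w | ¬ ∃ U : W.Opens, w ∈ U ∧ Nonempty (G.restrict U.ι ≅ FlatMod.freeMod U 1)}
  have hBad : IsClosed Bad := by
    refine ⟨isOpen_iff_forall_mem_open.2 fun w hw => ?_⟩
    obtain ⟨U, hwU, hU⟩ := not_not.1 (show ¬ w ∈ Bad from hw)
    exact ⟨U, fun w' hw' hb => hb ⟨U, hw', hU⟩, U.isOpen, hwU⟩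
  let V : S.Opens := ⟨(f '' Bad)ᶜ, (f.isClosedMap _ hBad).isOpen_compl⟩
  refine ⟨V, ?_, KRRPBLib.isInvertible_of_rankOne fun v => ?_⟩
  · rintro ⟨w, hw, hws⟩
    obtain ⟨z, rfl⟩ := (f.range_fiberι _).ge (show f w = genericPoint S from hws)
    have h1 := PicLib.isFinLocFreeOfRank_one h
    haveI : Coh.IsQCoh ((Scheme.Modules.pullback (f.fiberι (genericPoint S))).obj G) := EGA43.InjFibre.isQCoh_pullback _ G
    have hfr := VarietyLib.finrank_stalk_of_rank h1 z
    haveI := Props12.free_stalk_of_isFinLocFree _ (VarietyLib.isFinLocFree_of_rank h1) z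
    haveI := Module.finite_of_finrank_eq_succ hfr
    obtain ⟨b'⟩ := FlatMor12.FlatFun.exists_basis_stalk_of_flat (f.fiberι _) G hFT z (Module.finBasisOfFinrankEq _ _ hfr)
    haveI : Module.Free _ _ := Module.Free.of_basis b'
    obtain ⟨U, n, hU, ⟨e⟩⟩ := Props12.exists_nhd_free G hFP (f.fiberι _ z) inferInstance
    apply hw
    obtain rfl : n = 1 := by
      rw [← Coherent.CohBC.finrank_stalk_of_free G hU e, Module.finrank_eq_card_basis b', Fintype.card_fin]
    exact ⟨U, hU, ⟨e⟩⟩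
  · obtain ⟨U, hvU, ⟨e⟩⟩ := not_not.1 fun hb : (f ⁻¹ᵁ V).ι v ∈ Bad => v.2 ⟨_, hb, rfl⟩
    exact isFreeNear_pullback (f ⁻¹ᵁ V).ι v hvU e

variable [X.Over (Spec (CommRingCat.of k))]
variable {P : Over (Spec (CommRingCat.of k))}
  {φ : ∀ T : Over (Spec (CommRingCat.of k)), PicF.Cl (PicF.XT (X ↘ Spec (CommRingCat.of k)) T) → (T ⟶ P)}

/-- The class over the base point of a module on `X`. -/
noncomputable abbrev ptCl (L : X.Modules) : PicF.Cl (PicF.XT (X ↘ Spec (CommRingCat.of k)) (bpt k)) :=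
  PicF.pullCl (pullback.fst (X ↘ Spec (CommRingCat.of k)) (𝟙 (Spec (CommRingCat.of k)))) (PicF.cl L)

/-- Pulling back a class along a point is restricting to the slice. -/
theorem pullCl_XTmap_point {T : Scheme.{u}} {q : T ⟶ Spec (CommRingCat.of k)} (t : Spec (CommRingCat.of k) ⟶ T)
    (ht : t ≫ q = 𝟙 _) (G : (Pic13.prodK k X q).Modules) :
    PicF.pullCl (PicF.XTmap (X ↘ Spec (CommRingCat.of k)) (Over.homMk t ht : bpt k ⟶ Over.mk q)) (PicF.cl G) =
      ptCl (Pic13.fibreMod k X q t ht G) := by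
  have h : pullback.fst (X ↘ Spec (CommRingCat.of k)) (𝟙 _) ≫ Pic13.sliceAt k X q t ht =
      PicF.XTmap (X ↘ Spec (CommRingCat.of k)) (Over.homMk t ht : bpt k ⟶ Over.mk q) := by
    apply pullback.hom_ext
    · rw [Category.assoc, Pic13.sliceAt, pullback.lift_fst]
      exact (pullback.lift_fst _ _ _).symm
    · rw [Category.assoc, Pic13.sliceAt, pullback.lift_snd, pullback.condition_assoc, Category.id_comp]
      exact (pullback.lift_snd _ _ _).symm
  exact Quot.sound ⟨(Scheme.Modules.pullbackCongr h).symm.app G ≪≫ ((Scheme.Modules.pullbackComp _ _).app G).symm⟩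

/-- Slices of a base change. -/
theorem sliceAt_comp_XTmap {T T' : Scheme.{u}} {q : T ⟶ Spec (CommRingCat.of k)} {q' : T' ⟶ Spec (CommRingCat.of k)}
    (m : T' ⟶ T) (hm : m ≫ q = q') (t' : Spec (CommRingCat.of k) ⟶ T') (ht' : t' ≫ q' = 𝟙 _)
    (t : Spec (CommRingCat.of k) ⟶ T) (ht : t ≫ q = 𝟙 _) (e : t' ≫ m = t) :
    Pic13.sliceAt k X q' t' ht' ≫ PicF.XTmap (X ↘ Spec (CommRingCat.of k)) (Over.homMk m hm : Over.mk q' ⟶ Over.mk q) =
      Pic13.sliceAt k X q t ht := by
  apply pullback.hom_ext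
  · rw [Category.assoc]
    erw [pullback.lift_fst]
    rw [Category.comp_id]
    exact (pullback.lift_fst _ _ _).trans (pullback.lift_fst _ _ _).symm
  · rw [Category.assoc]
    erw [pullback.lift_snd]
    erw [pullback.lift_snd_assoc]
    rw [Category.assoc]
    exact (congrArg (_ ≫ ·) e).trans (pullback.lift_snd _ _ _).symm

/-- Fibres of a base change. -/
theorem nonempty_fibreMod_pull {T T' : Scheme.{u}} {q : T ⟶ Spec (CommRingCat.of k)} {q' : T' ⟶ Spec (CommRingCat.of k)}
    (m : T' ⟶ T) (hm : m ≫ q = q') (t' : Spec (CommRingCat.of k) ⟶ T') (ht' : t' ≫ q' = 𝟙 _)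
    (t : Spec (CommRingCat.of k) ⟶ T) (ht : t ≫ q = 𝟙 _) (e : t' ≫ m = t) (G : (Pic13.prodK k X q).Modules) :
    Nonempty (Pic13.fibreMod k X q' t' ht' ((Scheme.Modules.pullback
      (PicF.XTmap (X ↘ Spec (CommRingCat.of k)) (Over.homMk m hm : Over.mk q' ⟶ Over.mk q))).obj G) ≅
      Pic13.fibreMod k X q t ht G) :=
  ⟨(Scheme.Modules.pullbackComp _ _).app G ≪≫ (Scheme.Modules.pullbackCongr (sliceAt_comp_XTmap m hm t' ht' t ht e)).app G⟩

/-- Classes of fibres of an invertible family are points of its classifying map. -/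
theorem range_phi_point (hP : PicRel.IsRelPic (X ↘ Spec (CommRingCat.of k)) P φ) {T : Scheme.{u}}
    {q : T ⟶ Spec (CommRingCat.of k)} (t : Spec (CommRingCat.of k) ⟶ T) (ht : t ≫ q = 𝟙 _)
    (G : (Pic13.prodK k X q).Modules) (hG : PicF.IsInvertible G) (L : X.Modules)
    (e : Nonempty (Pic13.fibreMod k X q t ht G ≅ L)) :
    Set.range (φ (bpt k) (ptCl L)).left ⊆ Set.range (φ (Over.mk q) (PicF.cl G)).left := by
  have h0 : PicF.cl (Pic13.fibreMod k X q t ht G) = PicF.cl L := Quot.sound e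
  have h1 : ptCl (k := k) L = ptCl (Pic13.fibreMod k X q t ht G) := congrArg (PicF.pullCl _) h0.symm
  have h2 := hP.natural (Over.mk q) (bpt k) (Over.homMk t ht) (PicF.cl G) ⟨G, rfl, hG⟩
  rw [pullCl_XTmap_point t ht G] at h2
  rw [h1, h2]
  rintro _ ⟨y, rfl⟩
  exact ⟨t y, rfl⟩

variable [IsProper (X ↘ Spec (CommRingCat.of k))]

/-- Compact images are inside quasi-compact opens. -/
theorem exists_isCompact_opens {Y : Scheme.{u}} {s : Set Y} (hs : IsCompact s) :
    ∃ U : Y.Opens, IsCompact (U : Set Y) ∧ s ⊆ U := by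
  choose W hW hxW _ using fun x : Y => exists_isAffineOpen_mem_and_subset (x := x) (U := ⊤) trivial
  obtain ⟨F, hF⟩ := hs.elim_finite_subcover (fun x => (W x : Set Y)) (fun x => (W x).isOpen)
    fun x _ => Set.mem_iUnion.2 ⟨x, hxW x⟩
  refine ⟨⟨⋃ x ∈ F, (W x : Set Y), isOpen_biUnion fun x _ => (W x).isOpen⟩, ?_, hF⟩
  exact F.isCompact_biUnion fun x _ => (hW x).isCompact

variable [IsAlgClosed k]

/-- The classes of the invertible fibres of a coherent family over a scheme of finite type lie in a quasi-compact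
open subset. -/
theorem exists_open_of_family (hP : PicRel.IsRelPic (X ↘ Spec (CommRingCat.of k)) P φ) {T : Scheme.{u}}
    (q : T ⟶ Spec (CommRingCat.of k)) [LocallyOfFiniteType q] [QuasiCompact q]
    (F : (Pic13.prodK k X q).Modules) (hF : Coh.IsCoh F) :
    ∃ U : P.left.Opens, IsCompact (U : Set P.left) ∧ ∀ (t : Spec (CommRingCat.of k) ⟶ T) (ht : t ≫ q = 𝟙 _),
      PicF.IsInvertible (Pic13.fibreMod k X q t ht F) →
        Set.range (φ (bpt k) (ptCl (Pic13.fibreMod k X q t ht F))).left ⊆ U := by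
  haveI : IsLocallyNoetherian T := LocallyOfFiniteType.isLocallyNoetherian q
  haveI : CompactSpace T := QuasiCompact.compactSpace_of_compactSpace q
  haveI : AlgebraicGeometry.IsNoetherian T := ⟨⟩
  haveI : IsProper (pullback.snd (X ↘ Spec (CommRingCat.of k)) q) :=
    MorphismProperty.pullback_snd (P := @IsProper) _ _ inferInstance
  suffices ∀ Z : Set T, IsClosed Z → ∃ U : P.left.Opens, IsCompact (U : Set P.left) ∧
      ∀ (t : Spec (CommRingCat.of k) ⟶ T) (ht : t ≫ q = 𝟙 _), t (IsLocalRing.closedPoint k) ∈ Z →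
        PicF.IsInvertible (Pic13.fibreMod k X q t ht F) →
          Set.range (φ (bpt k) (ptCl (Pic13.fibreMod k X q t ht F))).left ⊆ U by
    obtain ⟨U, hU, h⟩ := this Set.univ isClosed_univ
    exact ⟨U, hU, fun t ht => h t ht trivial⟩
  intro Z hZ
  refine H8Top.closed_induction (motive := fun Z => ∃ U : P.left.Opens, IsCompact (U : Set P.left) ∧
      ∀ (t : Spec (CommRingCat.of k) ⟶ T) (ht : t ≫ q = 𝟙 _), t (IsLocalRing.closedPoint k) ∈ Z →
        PicF.IsInvertible (Pic13.fibreMod k X q t ht F) →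
          Set.range (φ (bpt k) (ptCl (Pic13.fibreMod k X q t ht F))).left ⊆ U) ?_ ?_ ?_ Z hZ
  · exact ⟨⊥, by simp, fun t ht h => h.elim⟩
  · intro A B _ _ hA hB
    obtain ⟨U, hU, hA⟩ := hA
    obtain ⟨U', hU', hB⟩ := hB
    refine ⟨U ⊔ U', hU.union hU', fun t ht hz hi => ?_⟩
    rcases hz with hz | hz
    · exact (hA t ht hz hi).trans Set.subset_union_left
    · exact (hB t ht hz hi).trans Set.subset_union_right
  · intro Z hZ hZi ih
    let I := Scheme.IdealSheafData.vanishingIdeal (⟨Z, hZ⟩ : TopologicalSpace.Closeds T)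
    haveI : IsReduced I.subscheme := Props12.isReduced_subscheme_vanishingIdeal _
    have hrange : Set.range I.subschemeι = Z := by
      rw [Scheme.IdealSheafData.range_subschemeι]; simp [I]
    haveI : IrreducibleSpace I.subscheme := by
      have h1 : IsIrreducible (Set.univ : Set I.subscheme) := by
        refine ⟨?_, ?_⟩
        · obtain ⟨z, hz⟩ := hZi.1
          obtain ⟨w, -⟩ := hrange.ge hz
          exact ⟨w, trivial⟩
        · intro U V hU hV hUn hVn
          obtain ⟨U', hU', rfl⟩ := I.subschemeι.isEmbedding.toIsInducing.isOpen_iff.1 hU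
          obtain ⟨V', hV', rfl⟩ := I.subschemeι.isEmbedding.toIsInducing.isOpen_iff.1 hV
          obtain ⟨x, -, hx⟩ := hUn
          obtain ⟨y, -, hy⟩ := hVn
          obtain ⟨z, hz, hzu, hzv⟩ := hZi.2 U' V' hU' hV' ⟨_, hrange.le ⟨x, rfl⟩, hx⟩ ⟨_, hrange.le ⟨y, rfl⟩, hy⟩
          obtain ⟨w, rfl⟩ := hrange.ge hz
          exact ⟨w, trivial, hzu, hzv⟩
      exact irreducibleSpace_def _ |>.2 h1
    haveI : IsIntegral I.subscheme := isIntegral_of_irreducibleSpace_of_isReduced _
    let S := I.subscheme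
    let j := I.subschemeι
    let f := pullback.snd (X ↘ Spec (CommRingCat.of k)) (j ≫ q)
    haveI : IsLocallyNoetherian S := LocallyOfFiniteType.isLocallyNoetherian j
    haveI : AlgebraicGeometry.IsNoetherian S :=
      { (inferInstance : IsLocallyNoetherian S) with
        isCompact_univ := (QuasiCompact.compactSpace_of_compactSpace j).isCompact_univ }
    haveI : IsProper f := MorphismProperty.pullback_snd (P := @IsProper) _ _ inferInstance
    haveI : IsLocallyNoetherian (Pic13.prodK k X (j ≫ q)) := LocallyOfFiniteType.isLocallyNoetherian f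
    let π : Pic13.prodK k X (j ≫ q) ⟶ Pic13.prodK k X q :=
      PicF.XTmap (X ↘ Spec (CommRingCat.of k)) (Over.homMk j rfl : Over.mk (j ≫ q) ⟶ Over.mk q)
    let G := (Scheme.Modules.pullback π).obj F
    have hG : Coh.IsCoh G := ZClosLib.isCoh_pullback π _ hF
    haveI := hG.1
    -- points of `Z` are points of `S`
    have hlift : ∀ (t : Spec (CommRingCat.of k) ⟶ T) (ht : t ≫ q = 𝟙 _), t (IsLocalRing.closedPoint k) ∈ Z →
        ∃ (t' : Spec (CommRingCat.of k) ⟶ S) (ht' : t' ≫ j ≫ q = 𝟙 _), t' ≫ j = t := by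
      intro t ht hz
      obtain ⟨z, hz'⟩ := hrange.ge hz
      have hzc : IsClosed ({z} : Set S) := by
        have h1 : IsClosed ({j z} : Set T) := by
          show IsClosed ({I.subschemeι z} : Set T)
          rw [hz']
          exact ((pointEquivClosedPoint q) ⟨t, ht⟩).2
        have h2 := h1.preimage j.continuous
        rwa [← Set.image_singleton, j.isEmbedding.injective.preimage_image] at h2
      refine ⟨pointOfClosedPoint (j ≫ q) z hzc, pointOfClosedPoint_comp _ _ _, ?_⟩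
      exact ext_of_apply_closedPoint_eq q (by rw [Category.assoc]; exact pointOfClosedPoint_comp _ _ _) ht
        (by rw [Scheme.Hom.comp_apply, pointOfClosedPoint_apply]; exact hz')
    -- the slices
    have hfib : ∀ (t : Spec (CommRingCat.of k) ⟶ T) (ht : t ≫ q = 𝟙 _) (t' : Spec (CommRingCat.of k) ⟶ S)
        (ht' : t' ≫ j ≫ q = 𝟙 _), t' ≫ j = t → Nonempty (Pic13.fibreMod k X (j ≫ q) t' ht' G ≅ Pic13.fibreMod k X q t ht F) := by
      intro t ht t' ht' e
      exact nonempty_fibreMod_pull j rfl t' ht' t ht e F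
    let C : Set S := {s | PicF.IsInvertible ((Scheme.Modules.pullback (f.fiberι s)).obj G)}
    have hC : IsLocallyConstructible C := by
      have h1 := H8Coh.FibreFree.isLocallyConstructible_setOf_fibre_isFinLocFreeOfRank f G (Coherent.isFP_of_isCoh hG) 1
      convert h1 using 1
      ext s
      exact ⟨PicLib.isFinLocFreeOfRank_one, KRRPBLib.isInvertible_of_rankOne⟩
    have hmemC : ∀ (t : Spec (CommRingCat.of k) ⟶ T) (ht : t ≫ q = 𝟙 _) (t' : Spec (CommRingCat.of k) ⟶ S)
        (ht' : t' ≫ j ≫ q = 𝟙 _), t' ≫ j = t → PicF.IsInvertible (Pic13.fibreMod k X q t ht F) →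
          t' (IsLocalRing.closedPoint k) ∈ C := by
      intro t ht t' ht' e hi
      obtain ⟨s, a, ha, he, hs⟩ := isIso_descResidueField (j ≫ q) t' ht'
      obtain ⟨ei⟩ := hfib t ht t' ht' e
      rw [← hs]
      have hsq := Coherent.CohBC.isPullback_slice k X (j ≫ q) t' ht'
      exact (isInvertible_fibre_iff f G s a _ _ he hsq).1
        (AmpleLib.glocus_isInvertible_of_iso ei.symm hi)
    let η := genericPoint S
    by_cases hη : η ∈ C
    · obtain ⟨V, hηV, hV⟩ := exists_open_isInvertible f G hG hη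
      let TV : Over (Spec (CommRingCat.of k)) := Over.mk (V.ι ≫ j ≫ q)
      let ρ : Pic13.prodK k X (V.ι ≫ j ≫ q) ⟶ Pic13.prodK k X (j ≫ q) :=
        PicF.XTmap (X ↘ Spec (CommRingCat.of k)) (Over.homMk V.ι rfl : TV ⟶ Over.mk (j ≫ q))
      let GV := (Scheme.Modules.pullback ρ).obj G
      have hGV : PicF.IsInvertible GV := by
        have hr : Set.range ρ ⊆ Set.range (f ⁻¹ᵁ V).ι := by
          rintro _ ⟨w, rfl⟩
          rw [Scheme.Opens.range_ι]
          show f (ρ w) ∈ V
          rw [← Scheme.Hom.comp_apply, show ρ ≫ f = pullback.snd _ _ ≫ V.ι from pullback.lift_snd _ _ _,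
            Scheme.Hom.comp_apply]
          exact (pullback.snd (X ↘ Spec (CommRingCat.of k)) TV.hom w).2
        exact AmpleLib.glocus_isInvertible_of_iso
          ((Scheme.Modules.pullbackComp (IsOpenImmersion.lift (f ⁻¹ᵁ V).ι ρ hr) _).app G ≪≫
            (Scheme.Modules.pullbackCongr (IsOpenImmersion.lift_fac _ _ hr)).app G)
          (PicLoc.isInvertible_pullback _ hV)
      haveI : CompactSpace TV.left := isCompact_iff_compactSpace.1 (NoetherianSpace.isCompact _)
      obtain ⟨U₁, hU₁, hsub⟩ := exists_isCompact_opens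
        (isCompact_range (φ TV (PicF.cl GV)).left.continuous)
      let Z' : Set T := j '' (V : Set S)ᶜ
      have hZ' : IsClosed Z' := j.isClosedEmbedding.isClosedMap _ V.isOpen.isClosed_compl
      have hss : Z' ⊂ Z := by
        refine ⟨fun z ⟨w, _, hw⟩ => hrange ▸ ⟨w, hw⟩, fun h => ?_⟩
        obtain ⟨w, hw, hwη⟩ := h (hrange ▸ ⟨η, rfl⟩ : j η ∈ Z)
        exact hw (j.isEmbedding.injective hwη ▸ hηV)
      obtain ⟨U₂, hU₂, h₂⟩ := ih Z' hZ' hss
      refine ⟨U₁ ⊔ U₂, hU₁.union hU₂, fun t ht hz hi => ?_⟩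
      obtain ⟨t', ht', e⟩ := hlift t ht hz
      by_cases hv : t' (IsLocalRing.closedPoint k) ∈ V
      · have hr : Set.range t' ⊆ Set.range V.ι := by
          rintro _ ⟨y, rfl⟩
          rw [Scheme.Opens.range_ι, Subsingleton.elim y (IsLocalRing.closedPoint k)]
          exact hv
        let tV := IsOpenImmersion.lift V.ι t' hr
        have htV : tV ≫ V.ι ≫ j ≫ q = 𝟙 _ := by rw [IsOpenImmersion.lift_fac_assoc, ht']
        obtain ⟨ei⟩ := hfib t ht t' ht' e
        obtain ⟨ei'⟩ := nonempty_fibreMod_pull V.ι rfl tV htV t' ht' (IsOpenImmersion.lift_fac _ _ hr) G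
        refine (range_phi_point hP tV htV GV hGV _ ⟨ei' ≪≫ ei⟩).trans ?_
        exact hsub.trans Set.subset_union_left
      · exact (h₂ t ht ⟨_, hv, by rw [← Scheme.Hom.comp_apply, e]⟩ hi).trans Set.subset_union_right
    · have hCc : IsConstructible C :=
        H8Top.isConstructible_iff_isFinUnionLC.2 (H8Top.IsFinUnionLC.of_isConstructible hC.isConstructible)
      have hne : closure C ≠ Set.univ := by
        intro h
        obtain ⟨O, hO, hne, hOC⟩ := (H8Top.IsFinUnionLC.of_isConstructible hCc).exists_isOpen_inter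
          (IrreducibleSpace.isIrreducible_univ S) (by rw [Set.inter_univ, h])
        rw [Set.inter_univ] at hne hOC
        exact hη (hOC (((genericPoint_spec S).mem_open_set_iff hO).2 (by simpa using hne)))
      let Z' : Set T := j '' closure C
      have hss : Z' ⊂ Z := by
        refine ⟨fun z ⟨w, _, hw⟩ => hrange ▸ ⟨w, hw⟩, fun h => hne (Set.eq_univ_of_forall fun w => ?_)⟩
        obtain ⟨w', hw', e⟩ := h (hrange ▸ ⟨w, rfl⟩ : j w ∈ Z)
        exact j.isEmbedding.injective e ▸ hw'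
      obtain ⟨U₂, hU₂, h₂⟩ := ih Z' (j.isClosedEmbedding.isClosedMap _ isClosed_closure) hss
      refine ⟨U₂, hU₂, fun t ht hz hi => h₂ t ht ?_ hi⟩
      obtain ⟨t', ht', e⟩ := hlift t ht hz
      exact ⟨_, subset_closure (hmemC t ht t' ht' e hi), by rw [← Scheme.Hom.comp_apply, e]⟩

/-- A quasi-compact open of the Picard scheme is covered by one family over a scheme of finite type. -/
theorem exists_family_of_open (hP : PicRel.IsRelPic (X ↘ Spec (CommRingCat.of k)) P φ)
    [LocallyOfFiniteType P.hom] (U : P.left.Opens) (hU : IsCompact (U : Set P.left)) :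
    ∃ (T : Scheme.{u}) (q : T ⟶ Spec (CommRingCat.of k)) (F : (Pic13.prodK k X q).Modules),
      LocallyOfFiniteType q ∧ QuasiCompact q ∧ Coh.IsCoh F ∧
      ∀ L : X.Modules, PicF.IsInvertible L → Set.range (φ (bpt k) (ptCl L)).left ⊆ U →
        ∃ (t : Spec (CommRingCat.of k) ⟶ T) (ht : t ≫ q = 𝟙 _), Nonempty (Pic13.fibreMod k X q t ht F ≅ L) := by
  classical
  haveI : CompactSpace U := isCompact_iff_compactSpace.1 hU
  let TU : Over (Spec (CommRingCat.of k)) := Over.mk (U.ι ≫ P.hom)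
  obtain ⟨ι, E, hcov, hE⟩ := hP.locallySurjective TU (Over.homMk U.ι rfl)
  choose c hc hφc using hE
  have hpick : ∀ u : (U : Scheme.{u}), ∃ (i : ι) (W : (E i).left.Opens), IsAffineOpen W ∧ u ∈ (E i).hom '' (W : Set (E i).left) := by
    intro u
    obtain ⟨i, y, hy⟩ := hcov u
    obtain ⟨W, hW, hyW, -⟩ := exists_isAffineOpen_mem_and_subset (x := y) (U := (⊤ : (E i).left.Opens)) trivial
    exact ⟨i, W, hW, y, hyW, hy⟩
  choose I W hW hmem using hpick
  have hopen : ∀ u, IsOpen ((E (I u)).hom '' (W u : Set (E (I u)).left)) := fun u =>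
    haveI : Etale (E (I u)).hom := (E (I u)).prop
    (E (I u)).hom.isOpenMap _ (W u).isOpen
  obtain ⟨A, hA⟩ := (isCompact_univ (X := (U : Scheme.{u}))).elim_finite_subcover _ hopen
    fun u _ => Set.mem_iUnion.2 ⟨u, hmem u⟩
  let Y : A → Scheme.{u} := fun a => (W a.1 : Scheme.{u})
  let qa : ∀ a : A, Y a ⟶ Spec (CommRingCat.of k) := fun a => (W a.1).ι ≫ (E (I a.1)).hom ≫ U.ι ≫ P.hom
  let T : Scheme.{u} := ∐ Y
  let q : T ⟶ Spec (CommRingCat.of k) := Sigma.desc qa
  haveI : ∀ a : A, LocallyOfFiniteType (qa a) := fun a => by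
    haveI : Etale (E (I a.1)).hom := (E (I a.1)).prop
    infer_instance
  haveI : LocallyOfFiniteType q := IsZariskiLocalAtSource.sigmaDesc (P := @LocallyOfFiniteType) (fun a => inferInstanceAs (LocallyOfFiniteType (qa a)))
  haveI : ∀ a : A, CompactSpace (Y a) := fun a => isCompact_iff_compactSpace.1 (hW a.1).isCompact
  haveI : CompactSpace T := (sigmaMk Y).compactSpace
  haveI : QuasiCompact q := inferInstance
  haveI : IsLocallyNoetherian T := LocallyOfFiniteType.isLocallyNoetherian q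
  haveI : IsProper (pullback.snd (X ↘ Spec (CommRingCat.of k)) q) :=
    MorphismProperty.pullback_snd (P := @IsProper) _ _ inferInstance
  haveI : IsLocallyNoetherian (Pic13.prodK k X q) :=
    LocallyOfFiniteType.isLocallyNoetherian (pullback.snd (X ↘ Spec (CommRingCat.of k)) q)
  let J : ∀ a : A, Pic13.prodK k X (qa a) ⟶ Pic13.prodK k X q := fun a =>
    PicF.XTmap (X ↘ Spec (CommRingCat.of k)) (Over.homMk (Sigma.ι Y a) (Sigma.ι_desc _ _) : Over.mk (qa a) ⟶ Over.mk q)
  have hJsq : ∀ a, IsPullback (J a) (pullback.snd _ (qa a)) (pullback.snd (X ↘ Spec (CommRingCat.of k)) q) (Sigma.ι Y a) :=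
    fun a => RigDesc27.isPullback_XTmap (f := X ↘ Spec (CommRingCat.of k))
      (Over.homMk (Sigma.ι Y a) (Sigma.ι_desc _ _) : Over.mk (qa a) ⟶ Over.mk q)
  haveI : ∀ a, IsOpenImmersion (J a) := fun a =>
    MorphismProperty.of_isPullback (P := @IsOpenImmersion) (hJsq a).flip inferInstance
  have hJcov : ∀ z, ∃ a, z ∈ Set.range (J a) := by
    intro z
    obtain ⟨⟨a, y⟩, hy⟩ := (sigmaMk Y).surjective (pullback.snd (X ↘ Spec (CommRingCat.of k)) q z)
    rw [sigmaMk_mk] at hy
    obtain ⟨w, hw, -⟩ := Scheme.exists_preimage_of_isPullback (hJsq a) z y hy.symm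
    exact ⟨a, w, hw⟩
  have hJdisj : ∀ (a a' : A) (x : Pic13.prodK k X (qa a)) (x' : Pic13.prodK k X (qa a')), J a x = J a' x' → a = a' := by
    intro a a' x x' h
    have h' := congrArg (pullback.snd (X ↘ Spec (CommRingCat.of k)) q) h
    rw [← Scheme.Hom.comp_apply, ← Scheme.Hom.comp_apply, (hJsq a).w, (hJsq a').w, Scheme.Hom.comp_apply,
      Scheme.Hom.comp_apply, ← sigmaMk_mk, ← sigmaMk_mk] at h'
    exact congrArg Sigma.fst ((sigmaMk Y).injective h')
  let r : ∀ a : A, Over.mk (qa a) ⟶ PicRel.ovr TU (E (I a.1)) := fun a => Over.homMk (W a.1).ι rfl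
  let cls : ∀ a : A, PicLib.PicM (Pic13.prodK k X (qa a)) := fun a =>
    PicLib.PicM.pull (PicF.XTmap (X ↘ Spec (CommRingCat.of k)) (r a)) ⟨c (I a.1), hc (I a.1)⟩
  obtain ⟨b, hb⟩ := RigDesc27.exists_class_of_disjoint J hJcov hJdisj cls
  obtain ⟨F, hF, rfl⟩ := PicLib.PicM.exists_eq_of b
  refine ⟨T, q, F, inferInstance, inferInstance, PicLib.isCoh_of_isInvertible hF, fun L hL hLU => ?_⟩
  -- the point of `P` and its lift
  let p := φ (bpt k) (ptCl L)
  have hp : p.left ≫ P.hom = 𝟙 _ := Over.w p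
  let u₀ : (U : Scheme.{u}) := ⟨p.left (IsLocalRing.closedPoint k), hLU ⟨_, rfl⟩⟩
  obtain ⟨u, huA, y, hyW, hy⟩ : ∃ u ∈ A, u₀ ∈ (E (I u)).hom '' (W u : Set (E (I u)).left) := by
    simpa using hA (Set.mem_univ u₀)
  let a : A := ⟨u, huA⟩
  haveI : Etale (E (I u)).hom := (E (I u)).prop
  have hu₀ : IsClosed ({u₀} : Set (U : Scheme.{u})) := by
    have h1 : IsClosed ({p.left (IsLocalRing.closedPoint k)} : Set P.left) := ((pointEquivClosedPoint P.hom) ⟨p.left, hp⟩).2
    have h2 := h1.preimage U.ι.continuous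
    rwa [show p.left (IsLocalRing.closedPoint k) = U.ι u₀ from rfl, ← Set.image_singleton,
      U.ι.isOpenEmbedding.injective.preimage_image] at h2
  haveI : JacobsonSpace (Y a) := LocallyOfFiniteType.jacobsonSpace (qa a)
  obtain ⟨y', hy', hy'c⟩ := (nonempty_inter_closedPoints (Z := ((W u).ι ≫ (E (I u)).hom) ⁻¹' {u₀}) ⟨⟨y, hyW⟩, hy⟩
    (hu₀.preimage (Scheme.Hom.continuous _)).isLocallyClosed :)
  let s := pointOfClosedPoint (qa a) y' hy'c
  have hs : s ≫ qa a = 𝟙 _ := pointOfClosedPoint_comp _ _ _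
  have hsP : (s ≫ (W u).ι ≫ (E (I u)).hom ≫ U.ι) = p.left := by
    refine ext_of_apply_closedPoint_eq P.hom (by rw [Category.assoc, Category.assoc, Category.assoc]; exact hs) hp ?_
    rw [Scheme.Hom.comp_apply, pointOfClosedPoint_apply, ← Category.assoc, Scheme.Hom.comp_apply, hy']
    rfl
  have ht : (s ≫ Sigma.ι Y a) ≫ q = 𝟙 _ := by rw [Category.assoc, Sigma.ι_desc]; exact hs
  refine ⟨s ≫ Sigma.ι Y a, ht, ?_⟩
  let S₀ : bpt k ⟶ Over.mk (qa a) := Over.homMk s hs
  have hcl : ptCl (k := k) (Pic13.fibreMod k X q (s ≫ Sigma.ι Y a) ht F) =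
      PicF.pullCl (PicF.XTmap (X ↘ Spec (CommRingCat.of k)) (S₀ ≫ r a)) (c (I u)) := by
    rw [← pullCl_XTmap_point]
    have h1 : (Over.homMk (s ≫ Sigma.ι Y a) ht : bpt k ⟶ Over.mk q) =
        S₀ ≫ (Over.homMk (Sigma.ι Y a) (Sigma.ι_desc _ _) : Over.mk (qa a) ⟶ Over.mk q) := Over.OverMorphism.ext rfl
    have h2 := congrArg (PicLib.PicM.pull (PicF.XTmap (X ↘ Spec (CommRingCat.of k)) S₀)) (hb a)
    rw [PicLib.PicM.pull_pull, PicLib.PicM.pull_pull, ← RigDesc27.XTmap_comp, ← RigDesc27.XTmap_comp, ← h1] at h2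
    exact congrArg PicLib.PicM.val h2
  have hphi : φ (bpt k) (ptCl (Pic13.fibreMod k X q (s ≫ Sigma.ι Y a) ht F)) = φ (bpt k) (ptCl L) := by
    rw [hcl, hP.natural _ _ _ _ (hc (I u)), hφc]
    exact Over.OverMorphism.ext (by simpa [S₀, r] using hsP)
  obtain ⟨ι', E', hcov', hE'⟩ := hP.locallyInjective (bpt k) _ _
    ⟨_, rfl, PicLoc.isInvertible_pullback _ (PicLoc.isInvertible_pullback _ hF)⟩
    ⟨_, rfl, PicLoc.isInvertible_pullback _ hL⟩ hphi
  obtain ⟨i, z, -⟩ := hcov' (IsLocalRing.closedPoint k)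
  haveI : Etale (E' i).hom := (E' i).prop
  haveI : JacobsonSpace (E' i).left := @LocallyOfFiniteType.jacobsonSpace _ (Spec (CommRingCat.of k)) (E' i).hom (inferInstanceAs (LocallyOfFiniteType (E' i).hom)) inferInstance
  obtain ⟨z', -, hz'⟩ := nonempty_inter_closedPoints (Z := (Set.univ : Set (E' i).left)) ⟨z, trivial⟩
    isClosed_univ.isLocallyClosed
  let σ : bpt k ⟶ PicRel.ovr (bpt k) (E' i) := Over.homMk (pointOfClosedPoint (E' i).hom z' hz')
    (by
      show pointOfClosedPoint (E' i).hom z' hz' ≫ (E' i).hom ≫ 𝟙 _ = 𝟙 _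
      rw [Category.comp_id, pointOfClosedPoint_comp])
  have hσ : σ ≫ PicRel.ovrHom (bpt k) (E' i) = 𝟙 _ := Over.OverMorphism.ext (pointOfClosedPoint_comp _ _ _)
  have h3 : PicF.cl ((Scheme.Modules.pullback (pullback.fst (X ↘ Spec (CommRingCat.of k)) (𝟙 _))).obj
      (Pic13.fibreMod k X q (s ≫ Sigma.ι Y a) ht F)) =
      PicF.cl ((Scheme.Modules.pullback (pullback.fst (X ↘ Spec (CommRingCat.of k)) (𝟙 _))).obj L) := by
    let a₁ : PicLib.PicM (PicF.XT (X ↘ Spec (CommRingCat.of k)) (bpt k)) :=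
      PicLib.PicM.of (PicLoc.isInvertible_pullback (pullback.fst (X ↘ Spec (CommRingCat.of k)) (𝟙 (Spec (CommRingCat.of k)))) (PicLoc.isInvertible_pullback (Pic13.sliceAt k X q (s ≫ Sigma.ι Y a) ht) hF))
    let a₂ : PicLib.PicM (PicF.XT (X ↘ Spec (CommRingCat.of k)) (bpt k)) :=
      PicLib.PicM.of (PicLoc.isInvertible_pullback (pullback.fst (X ↘ Spec (CommRingCat.of k)) (𝟙 _)) hL)
    have h4 : PicLib.PicM.pull (PicF.XTmap (X ↘ Spec (CommRingCat.of k)) (PicRel.ovrHom (bpt k) (E' i))) a₁ =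
        PicLib.PicM.pull (PicF.XTmap (X ↘ Spec (CommRingCat.of k)) (PicRel.ovrHom (bpt k) (E' i))) a₂ :=
      PicLib.PicM.ext (hE' i)
    have h5 := congrArg (PicLib.PicM.pull (PicF.XTmap (X ↘ Spec (CommRingCat.of k)) σ)) h4
    rw [PicLib.PicM.pull_pull, PicLib.PicM.pull_pull, ← RigDesc27.XTmap_comp, hσ, RigDesc27.XTmap_id,
      PicLib.PicM.pull_id, PicLib.PicM.pull_id] at h5
    exact congrArg PicLib.PicM.val h5
  obtain ⟨e⟩ := (PicGrp.cl_eq_cl_iff _ _).1 h3
  let pr := pullback.fst (X ↘ Spec (CommRingCat.of k)) (𝟙 (Spec (CommRingCat.of k)))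
  let back : ∀ M : X.Modules, (Scheme.Modules.pullback (inv pr)).obj ((Scheme.Modules.pullback pr).obj M) ≅ M :=
    fun M => (Scheme.Modules.pullbackComp (inv pr) pr).app M ≪≫
      (Scheme.Modules.pullbackCongr (IsIso.inv_hom_id pr)).app M ≪≫ (Scheme.Modules.pullbackId X).app M
  exact ⟨(back _).symm ≪≫ (Scheme.Modules.pullback (inv pr)).mapIso e ≪≫ back L⟩

end Groth.Agent.PicBound27
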